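import Cfsg.Agent.INV.WX.HeCen
import Cfsg.Agent.INV.WX.TB5

/-! Automorphisms of `Y = Cd z` are induced by `C(conj z)`: a model and a stabiliser chain for the group `Y`; search over
the images of `x` (order 7), `b` (order 3, normalising `⟨x⟩`), `q` (order 4, centralising `b`) and `d` (inverting `b`). -/

set_option autoImplicit false

namespace CL.WX.HeD

open Subgroup CL.K CL.SchurC CL.AutT Cfsg.Spor
open CL.WS (Inn OI fix)

namespace B5

/-- letters: `1, x, y, x⁻¹, y⁻¹, b, q, d, z, q'` and generators of a point stabiliser -/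
def vs : List (List ℕ) :=
  [[],
   [18],
   [19],
   [20],
   [21],
   [19,18,21,21,21,18,21,20,19,18,19],
   [21,18,19,19,20,19,19,18],
   [18,18,21,20,21,21,18],
   [21,18,19,18,21,18,19,18],
   [19,18,19,18,18,19,20,19,19,19,18],
   [21,21,18,18,18,19],
   [19,19,18,21,21,18,19],
   [19,19,20,21,20,21,20,19]]

def ls : List Lv :=
  [⟨1, 9, 1344, [0, 1, 2, 3, 4], CL.SchurC.ent 3 7
    0x118808644080a044404001a50b4116025210838e46206108222c492465a8024c270464205484a6cc70908308c4100180920192c21020030d442288168a01a0a000830211b92046005b24266110370870400224081220a4cb0200a005b80008828a22460028221824b8144522434230d24134204490480538c06028a148470a41488065101092280c0141222586186206582c06c05122c109c4806440028c001168041c0c388004070081440031860285a0230e020a85b44212480084310a10142000a20810940a0144dc0c000892420221b50221b0e40014d802402401309810291450020c9192e10000cb30200128c8490d046089044400068461040344809029881800028370b0942139210198144086a40980838002480180240088c30231030a00040417023190cb0e110025c61c08008c0c229c7080830d06004010916d08dc0a10c06002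5c0810828db80c0814132188e085280348b24488101430045b8d981040431000202012301388b9106432a00248404181104a04dc40090304820090088869022100a0a01234504621094a46914134006804082180da4db6018c44590d841904010361412050b04b85004841800a01261b00c40080030a08120c7200088029110004186200901008d108809992306188390a0c00d80c191c4138608404800a45004412228831238826a32a20db6514122c40238d921204842282028c22446049c05c4cb00c8137034980c01088418034a24648130620819094080046182990846032521024096038080d44048430411139000c80d80944c182408900882401101225b8822088d24000008038c02dc45a0985128118c310164c0618182218c064221b2008cc8880237210030080c088164a00008410248c4884d14534100e406006389805a0092e40a100225141331481c1204212038c86104426210d010864491928009351924389480a8c15080014186202d101404012125381a70208301c2106809200c11108d38c44182032105206110da65271c22241348020268884c89b04842160a8411000026244010027010c84026a22820480410004844014c0⟩,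
   ⟨159, 4, 16, [0, 10, 11, 12], CL.SchurC.ent 2 3
    0x800000000000000000000000000000000000004000000000000000000000000000000000000000030000000000000000000000000000000000000000000000c000000000000000000000000000000000000000000000000000000000000000000000000000000000000000000000000000000000000000000000000000000000000000000000000000000000000000000000000000000000000000000000000003004000000000000000000000000000c000000000000000000000000000000000000000000000000000000000000000000000000000000000000000004000000000010000000000000000000000000000000000c000000000000000000000000000000000000000000000000000000000000000000000003000000000000000000000080000000000000000000000000000000000000000000000000000000000000000000000000000000000040000000000000000000000000000200000000000000000000000000000000000000000000000000000000000000000000000000000000000000000000000000000000000000002000000000000000000000000000000000000000000000000000000000000000000000000000000000000000000000000000000000000000000000000000000000000000000000000000000000000000000000000000000000000000000000000000000000000000000000000000⟩]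

def Wx : List (List ℕ) := [[],[8,1,1],[8,1,1,1,1],[1,1,1,1,1],[1,1,1],[8,1,1,1,1,1,1],[1,1,1,1,1,1],[1],[1,1,1,1],[8,1,1,1],[8,1],[8],[8,1,1,1,1,1],[1,1]]

def Wb : List (List ℕ) := [[],[6,6],[9,6,6],[6,9,5,5],[6],[6,5,5],[9,6,6,5],[6,6,5,5],[6,6,6,5,5],[6,5],[6,6,5],[6,6,6],[6,6,6,5],[9,6,5,5],[9,5],[5,5],[9],[9,6,5],[9,5,5],[5],[9,6],[6,9,5],[9,6,6,5,5],[6,9]]

def SU : List (List ℕ × List ℕ) := [([], []), ([1,1,1,1,1], [1,1,1,1,1]), ([1,1,1], [1,1,1]), ([1,1,1,1,1,1], [1,1,1,1,1,1]), ([1], [1]), ([1,1,1,1], [1,1,1,1]), ([1,1], [1,1])]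

theorem mem : ∀ w ∈ vs, wd g w ∈ Cd z := by
  have h : ∀ i ∈ xs, g i ∈ Cd z := fun i hi => Cd_eq ▸ mem_Lt hi
  have k : ∀ i j, feq (wap F [i, j]) (wap F []) base = true → g j = (g i)⁻¹ := fun i j e => by
    have := M.wd_eq e
    rw [wd_cons, wd_one, wd_nil] at this
    exact eq_inv_of_mul_eq_one_right this
  refine wsIn_mem (L := [18, 19, 20, 21]) (by decide +kernel) fun i hi => ?_
  simp only [List.mem_cons, List.not_mem_nil, or_false] at hi
  rcases hi with rfl | rfl | rfl | rfl
  · exact h _ (by decide)
  · exact h _ (by decide)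
  · rw [k 18 20 (by decide +kernel)]; exact inv_mem (h _ (by decide))
  · rw [k 19 21 (by decide +kernel)]; exact inv_mem (h _ (by decide))

/-- the letters of `Y` -/
noncomputable def gY : ℕ → Cd z := sg g vs mem

theorem MY : Mdl id (· < 2058) gY (sF F vs) base := mdl_sub M vs mem

theorem cnts : Cnts (sF F vs) 2058 ls := cnts_of (by decide +kernel)

theorem lvok : lvOK (sF F vs) 2058 ls [] = true := by decide +kernel

theorem cx : cntN (fun y => sift (sF F vs) [] y ls [[], [1]] []) 2058 = 14 := by decide +kernel

theorem cb : cntN (fun y => sift (sF F vs) [] y ls [[], [5]] []) 2058 = 24 := by decide +kernel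

theorem card_Y : Nat.card (Cd z) = 21504 := by
  rw [← card_C, le_antisymm (Cd_le z) fun x hx => mem_Cd x (mem_centralizer_singleton_iff.1 hx)]

theorem gen (K : Subgroup (Cd z)) (h : ∀ i ∈ [1, 2], gY i ∈ K) : K = ⊤ := by
  have : Lt g xs ≤ K.map (Cd z).subtype := Lt_le.2 fun i hi => by
    simp only [xs, List.mem_cons, List.not_mem_nil, or_false] at hi
    rcases hi with rfl | rfl
    exacts [⟨_, h 1 (by decide), wd_one g 18⟩, ⟨_, h 2 (by decide), wd_one g 19⟩]
  refine eq_top_iff.2 fun x _ => ?_
  obtain ⟨y, hy, e⟩ := this (Cd_eq.le x.2)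
  exact (Subtype.ext e : y = x) ▸ hy

theorem fixx (ψ : MulAut (Cd z)) (h0 : ψ (wd gY [1]) = wd gY [1]) : Ind z ψ := by
  have ch := MY.chn (prev := []) (by simp) lvok cnts (card_top.trans_le (card_Y.trans_le (by decide +kernel)))
  have hcl : ∀ (k : Cd z) x, x < 2058 → ∃ y < 2058, k • id x = id y := fun k => cl k
  have wx := MY.cent_cover hcl ch (a := 1) (x := 69) (L := [1, 8]) (W := Wx)
    (by decide +kernel) (by decide +kernel) (cntN_eq _ _ ▸ cx.le)
  have wb := MY.cent_cover hcl ch (a := 5) (x := 116) (L := [5, 6, 9]) (W := Wb)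
    (by decide +kernel) (by decide +kernel) (cntN_eq _ _ ▸ cb.le)
  have hx : 69 < 2058 := by norm_num
  have hy : 116 < 2058 := by norm_num
  obtain ⟨k, h1, h2⟩ := back MY (SU := SU) (by decide +kernel) h0
    (MY.step2 (.cons h0 .nil) h0 wx hx (c := [5]) 7 2 4 [([0], 3)] (by decide +kernel))
  refine Ind.conj k ψ ?_
  generalize MulAut.conj k * ψ = ψ at h1 h2
  intro hz
  have ez : ((wd gY [8] : Cd z) : He) = z := by
    rw [wd_one]; exact M.wd_eq (w := vs.getD 8 []) (by decide +kernel)
  have h3 : ψ (wd gY [8]) = wd gY [8] := Subtype.ext ((hz _ ez).trans ez.symm)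
  obtain ⟨w, hw, h4⟩ := MY.step2 (.cons h1 (.cons h2 (.cons h3 .nil))) h2 wb hy (c := [6]) (S := [[]]) 3 1 1
    [([0], 4), ([0,1], 7), ([0,0,3], 1)] (by decide +kernel)
  obtain rfl := List.mem_singleton.1 hw
  obtain ⟨w, hw, h5⟩ := MY.step2 (.cons h4 (.cons h1 (.cons h2 .nil))) h2 wb hy (c := [7]) (S := [[]]) 3 2 2
    [([0], 2), ([0,2], 6), ([0,1,0,2], 7), ([0,1,1,2], 3)] (by decide +kernel)
  obtain rfl := List.mem_singleton.1 hw
  rw [MY.eq_one_of_gen gen (L := [1, 5, 6, 7]) (v := fun i => [[], [1], [6,5,1,6,1,6,1,6,5,1,7]].getD i []) (by decide +kernel)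
    (ψ := ψ) (List.forall_mem_cons.2 ⟨h1, List.forall_mem_cons.2 ⟨h2, List.forall_mem_cons.2 ⟨h4,
      List.forall_mem_singleton.2 h5⟩⟩⟩)]
  exact ⟨1, rfl, fun _ => rfl⟩

end B5

open B5

theorem b5 : ∀ φ : MulAut (Cd z), (∀ x : Cd z, (x : He) = z → (φ x : He) = z) →
    ∃ α : MulAut He, α z = z ∧ ∀ x : Cd z, (φ x : He) = α x := by
  have := Fact.mk (by norm_num : Nat.Prime 7)
  have p7 : wd gY [1] ^ 7 = 1 := MY.pow_eq_one (by decide +kernel)
  refine start3 (Ind z) Ind.conj (a := wd gY [1]) (b := wd gY [5]) (p := 7) (r := 2) (by norm_num)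
    (orderOf_eq_prime p7 (MY.ne_one (x := 69) (by norm_num) (by decide +kernel)))
    (by rw [card_Y]; norm_num) (MY.conj_eq (by decide +kernel)) (es := [1, 6]) (by decide) ?_
  refine List.forall_mem_cons.2 ⟨fun ψ h => fixx ψ (h.trans (pow_one _)), List.forall_mem_singleton.2 fun ψ h => ?_⟩
  have tz : τ z = z := by
    show τ (wd g [17]) = wd g [17]
    rw [wd_one]; exact (M1 17).eq M.isb (M.rp 17) (by decide +kernel)
  obtain ⟨β, hβ⟩ := exists_res tz
  have e1 : β (wd gY [1]) = wd gY [4,1,2,3,4,4,3,3] := Subtype.ext (by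
    rw [hβ, wd_one]
    refine (congrArg τ (wd_one g 18)).trans ((M1 18).eq M.isb (k' := ((wd gY [4,1,2,3,4,4,3,3] : Cd z) : He))
      (Rp.wd MY.rp [4,1,2,3,4,4,3,3]) (by decide +kernel)))
  have e2 : wd gY [4,1,4,4,4,3,3,2] * wd gY [4,1,2,3,4,4,3,3] = wd gY [1] ^ 6 * wd gY [4,1,4,4,4,3,3,2] := by
    rw [← wd_append]
    refine (MY.wd_eq (v := List.replicate 6 1 ++ [4,1,4,4,4,3,3,2]) (by decide +kernel)).trans ?_
    rw [wd_append, wd_replicate, wd_one]
  refine Ind.step tz hβ (Ind.conj (wd gY [4,1,4,4,4,3,3,2]) _ (fixx _ ?_))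
  rw [MulAut.mul_apply, MulAut.mul_apply, h, map_pow, map_pow, e1, MulAut.conj_apply, e2, mul_inv_cancel_right, ← pow_mul,
    pow_eq_pow_mod _ p7, pow_one]

end CL.WX.HeD
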