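import Cfsg.Agent.INV.WX.HeE
import Cfsg.Agent.INV.WX.TCls

/-! Involutions of `Aut A`. `T = Lt (hg τ g 63) (63 :: ps)` is a Sylow 2-subgroup of `Aut A` (`pc_of E.MB` with `cs`;
`|Aut A| = 2 |A|`). For `α² = 1` and a 2-group `Y ≤ fix α` the 2-group `⟨conj Y, α⟩` is conjugate into `T`, and `conj Y` into
`conj S = T ∩ Inn`. One pass over `T`: each involution is `S`-conjugate (table: conjugator bits, index) to a listed
representative `ρ`; `ρ` is conjugate by a given word to `conj z`, `conj c`, `τ` or `σ`; `|C_S(ρ)|` by `Pc.card_cent`.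
`τ` fixes `z` and `c`, so conjugacy of `conj a` and `conj z` in `Aut A` gives conjugacy in `A`. Parity: `Tw.inn_iff`. -/

set_option autoImplicit false

namespace CL.WX.HeD

open Subgroup CL.K CL.SchurC CL.AutT Cfsg.Spor
open CL.WS (Inn OI fix)

namespace Cx

open CL.WX.TC

def bT : List ℕ := [2484,2089]

def c0 : Cl := ⟨0, 0, [],
  [(0,0)]⟩

def c1 : Cl := ⟨1024, 1, [],
  [(1024,0)]⟩

def c2 : Cl := ⟨1712, 2, [],
  [(688,1),(1712,0)]⟩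

def c3 : Cl := ⟨1, 3, [],
  [(1,0),(21,29),(37,657),(73,32),(77,829),(125,9),(133,313),(161,64),(181,15),(221,1),(233,128),(237,911),(297,14),(353,822),(393,494),(449,366),
   (517,69),(529,256),(565,873),(601,288),(605,901),(621,73),(661,33),(677,1007),(689,330),(717,577),(761,384),(765,909),(825,502),(881,558),(921,20),
   (977,884),(1025,770),(1045,589),(1061,865),(1097,816),(1101,303),(1149,257),(1157,713),(1185,16),(1205,189),(1245,771),(1257,400),(1261,709),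
   (1321,188),(1377,668),(1417,4),(1473,708),(1541,21),(1553,2),(1589,289),(1625,642),(1629,301),(1645,331),(1685,305),(1701,517),(1713,794),(1741,17),
   (1785,546),(1789,293),(1849,326),(1905,868),(1945,508),(2001,132)]⟩

def c4 : Cl := ⟨2, 1, [5,6,4,0,1,2,3,0,1,6,3,2,6,0,3,0,4,1,3,4,1,5,6,1,3,2,5,0,6,4,3,2,5,3,4,1,0,3,2,1,0,4,6,5,6,3,2,6,0,3,0,5,6,1,5,4,0,3,4,1,0,3,2,1,0,4,6,5,0,3,0,6,2,3,6],
  [(2,0),(18,14),(146,546),(354,642),(482,770),(498,16),(562,32),(962,668),(1026,4),(1042,2),(1170,366),(1378,822),(1506,330),(1522,20),(1586,708),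
   (1986,128)]⟩

def c5 : Cl := ⟨4, 2, [5,3,1,2,3,6,2,3,5,6,2,3,1,0],
  [(4,0),(20,4),(164,553),(324,40),(532,865),(676,20),(692,16),(1012,48),(1028,256),(1044,1),(1188,33),(1348,32),(1556,313),(1700,233),(1716,64),
   (2036,400)]⟩

def c6 : Cl := ⟨8, 1, [5,3,6,5,3,2,1,6,3,2,3,4,1,2,3,1,2,3,6,5,3,6,2,1],
  [(8,0),(24,2),(56,865),(456,313),(488,275),(504,64),(664,875),(872,546),(1032,1),(1048,523),(1080,128),(1480,32),(1512,794),(1528,577),(1688,642),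
   (1896,307)]⟩

def c7 : Cl := ⟨16, 1, [4,3,5,6,2,3,5],
  [(16,0),(848,32),(1040,64),(1872,128)]⟩

def c8 : Cl := ⟨32, 1, [0,1,6,5,3,2,1,3,2,3,2,4,3,5,1,2,3,2,3,6,1,2,3,5,6,2,0],
  [(32,0),(464,1),(656,2),(864,32),(1056,64),(1488,577),(1680,865),(1888,128)]⟩

def c9 : Cl := ⟨64, 1, [1,3,2,3,6,3,4,2,3,1,2,3,6,2,3,2,3,4,2,1],
  [(64,0),(256,525),(304,14),(384,523),(576,10),(624,1),(704,3),(768,8),(1088,7),(1280,2),(1328,9),(1408,4),(1600,517),(1648,6),(1728,12),(1792,15)]⟩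

def c10 : Cl := ⟨128, 1, [1,0,4,6,3,2,1,3,5,6,3,2,3,4,1,2,3,2,3,1,2,3,2,3,5,4,3,1],
  [(128,0),(368,4),(560,523),(960,6),(1152,1),(1392,517),(1584,2),(1984,14)]⟩

def c11 : Cl := ⟨512, 1, [4,1,2,3,6,3,2,3,0,1,0],
  [(512,0),(1008,1),(1536,2),(2032,9)]⟩

def c12 : Cl := ⟨40, 2, [5,3,2,3,2,5,3,2,3,1,2,3,5,4,3,0,1,2,3,4,1,2],
  [(40,0),(648,2),(856,128),(888,523),(1496,1),(1704,32),(1720,546),(1864,642)]⟩

def c13 : Cl := ⟨48, 2, [5,4,2,3,2,3,5,6,3,4],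
  [(48,0),(448,1),(640,2),(1904,523)]⟩

def c14 : Cl := ⟨192, 2, [4,3,2,3,2,4,5,3,2,3,6,1,2,3,5,4,3,6,2,3,4,1,0],
  [(112,10),(192,0),(816,2),(944,523),(1264,4),(1456,9),(1776,1),(1920,8)]⟩

def c15 : Cl := ⟨320, 2, [3,2,1,4,3,2,6,3,5,4,3,6,4,2,3,1,2,3,5,3,2],
  [(176,4),(320,0),(1200,1),(1344,8)]⟩

def c16 : Cl := ⟨14, 1, [4,3,2,3,5,3,2,3,5,1,2,3,1,2,3,5,3,2,3,2],
  [(14,0),(30,1),(846,64),(862,865),(1038,2),(1054,4),(1870,16),(1886,233)]⟩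

def c17 : Cl := ⟨672, 2, [5,3,1,2,3,5,4,3,1,2,0,1,0],
  [(480,32),(672,0),(1504,128),(1696,1)]⟩

def c18 : Cl := ⟨832, 1, [4,1,2,3,5,3,2],
  [(832,0),(1856,1)]⟩

def c19 : Cl := ⟨896, 1, [0,1,0,2,3,6,3,2,3,6,1,2,3,5,4,2,3,2,3,5,4,0],
  [(240,523),(432,1),(752,9),(896,0),(1136,2),(1216,8),(1840,10),(1968,4)]⟩

def c20 : Cl := ⟨1064, 1, [4,5,3,2,1,6,3,2,4,3,2,5,3,1,2,3,6,3,4,1,2,3,5,1,2,3,0],
  [(472,1),(680,32),(696,546),(840,642),(1064,0),(1672,2),(1880,128),(1912,523)]⟩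

def c21 : Cl := ⟨1072, 1, [1,3,2,6,3,2,1,5,3,6,2,3,2,3,6,3,2,3,5,3,1,2,3,6,1],
  [(880,523),(1072,0),(1472,1),(1664,2)]⟩

def c22 : Cl := ⟨330, 1, [3,1,2,3,6,3,4,2,0],
  [(186,1),(330,0),(698,865),(842,128),(1210,4),(1354,2),(1722,313),(1866,32)]⟩

def c23 : Cl := ⟨526, 2, [5,6,3,5,4,3,2,3,4,1],
  [(174,233),(334,16),(526,0),(1006,1),(1198,313),(1358,24),(1550,8),(2030,4)]⟩

def c24 : Cl := ⟨538, 2, [5,3,6,5,3,6,5],
  [(538,0),(682,48),(858,32),(1002,64),(1562,8),(1706,313),(1882,392),(2026,1)]⟩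

def c25 : Cl := ⟨110, 1, [3,5,4,3,2,3,1,2,3,1,2,3,5,4,0],
  [(110,0),(222,546),(254,577),(446,4),(766,523),(814,8),(926,2),(958,1),(1134,16),(1246,10),(1278,9),(1470,20),(1790,36),(1838,32),(1950,770),
   (1982,313)]⟩

def c26 : Cl := ⟨496, 1, [4,3,2,3,6,3,2,3,6,1,2,3,1,2,3,6,3,2,3,2,0,1,0],
  [(496,0),(1520,2)]⟩

def cl : List Cl := [c0, c1, c2, c3, c4, c5, c6, c7, c8, c9, c10, c11, c12, c13, c14, c15, c16, c17, c18, c19, c20, c21, c22, c23, c24, c25, c26]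

def fo : List (List ℕ × ℕ × List ℕ) :=
  [([2484,2089], 0, []),
   ([86,3621], 1024, []),
   ([1782,899], 1472, [3,5,6,3,2,1,3,2,5,3,2,3,1,2,3,5,4,3,2,3,5,1,2,3,6,4,0]),
   ([3880,3243], 1664, [1,5,3,2,1,3,2,5,3,2,3,6,1,2,3,5,4,3,2,3,5,3,0,1]),
   ([2038,2073], 880, [3,6,5,3,2,1,4,3,2,1,3,2,1,6,3,2,3,5,2,3,6,2,3,1,2,3,6,3,1]),
   ([240,763], 1072, [1,3,4,6,3,2,1,3,2,3,5,2,3,6,1,2,3,5,4,3,2,3,6,4,1]),
   ([3924,1137], 1376, []),
   ([2280,189], 144, []),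
   ([1346,805], 976, []),
   ([2738,2579], 544, []),
   ([3306,1217], 2000, []),
   ([1192,1641], 1568, []),
   ([3182,3383], 352, []),
   ([1896,3093], 1168, [])]

def u3 : List ℕ :=
  [0,10]

theorem sb : SBB E bT := sbb_of E (cs := cs) (by decide +kernel) (by decide +kernel)

theorem pa : passA (hF F F1 63) bT (63 :: ps) cl = 0 := by decide +kernel

theorem pb : passB (hF F F1 63) bT (63 :: ps) fo = 0 := by decide +kernel

theorem dat : Dat g τ ps zw cw [] cl := dat_of E sb (by decide +kernel) pa (by decide +kernel)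

theorem l3 : ∃ Y ≤ fix (wd (hg τ g 63) [63]), IsPGroup 2 Y ∧ 2 ≤ Nat.card Y := low E sb (us := u3) (by decide +kernel)

end Cx

theorem reps : ∀ α : MulAut He, α * α = 1 → α = 1 ∨ IsConj (MulAut.conj z) α ∨ IsConj (MulAut.conj c) α ∨
    IsConj τ α ∨ IsConj σ α :=
  Cx.dat.reps

theorem cls : ∀ a : He, orderOf a = 2 → IsConj z a ∨ IsConj c a :=
  Cx.dat.inv

theorem cext : ¬ IsConj z c → ∀ Y ≤ centralizer ({c} : Set He), IsPGroup 2 Y → Nat.card Y ≤ 512 :=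
  Cx.dat.cext (by decide +kernel) (M.pow_eq_one (by decide +kernel))

/-- a pass over `T`: the fourth powers of order two form a short list -/
theorem four : ∀ γ : MulAut He, γ ^ 8 = 1 → γ ^ 4 = 1 ∨ Om z (γ ^ 4) :=
  TC.four E Cx.sb (by decide +kernel) Cx.pb

theorem small1 : ∀ Y ≤ fix τ, IsPGroup 2 Y → Nat.card Y ≤ 16 :=
  Cx.dat.small1 (by decide +kernel) fun _ => by decide +kernel

theorem small2 : ∀ β : MulAut He, OI β → ∃ Y ≤ fix β, IsPGroup 2 Y ∧ 2 ≤ Nat.card Y :=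
  Cx.dat.small2 Cx.l3 Cx.l3

end CL.WX.HeD
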