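import Cfsg.Agent.INV.WX.HeCls
import Cfsg.Agent.INV.WX.HeCen
import Cfsg.Agent.INV.WX.TDP

/-! Elements of the derived groups of fixed points: both properties are invariant under conjugation in `Aut A`; use `reps`. -/

set_option autoImplicit false

namespace CL.WX.HeD

open Subgroup CL.K CL.SchurC CL.AutT Cfsg.Spor
open CL.WS (Inn OI fix)

namespace DPx

theorem et : wd (hg τ g 63) [63] = τ := TDP.wd63

theorem es : τ = σ := et.symm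

theorem τz : τ z = z := by
  have := TDP.fx E (ρ := [63]) (w := zw) (by decide +kernel)
  rwa [et] at this

theorem ez : wd (hg τ g 63) [17] = MulAut.conj z := hg_wd (by decide)

theorem ec : wd (hg τ g 63) [11, 12, 14, 16, 17] = MulAut.conj c := hg_wd (by decide)

theorem fτ : TDP.Fus τ :=
  et ▸ TDP.fus E (ρ := [63]) (u := [0, 6, 8, 6, 19, 6, 5, 1, 18, 0]) (v := [5, 13, 20, 5, 6, 20, 20, 0]) (a := [2, 9, 19, 11, 6, 11, 6, 21, 2])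
    (y := [20, 8, 5, 20, 19, 5, 21, 5, 3]) (by decide +kernel)

theorem z7 : DP (MulAut.conj z) 7 :=
  ez ▸ TDP.dp E (ρ := [17]) (u := [13, 9, 18, 15]) (v := [18, 8, 19, 1]) (i := [13, 1, 0, 21, 0])
    (u' := [1, 20, 15, 18, 3]) (v' := [19, 20, 11, 8]) (j := [10, 14, 18, 21]) (by norm_num) (by decide +kernel)

theorem c7 : DP (MulAut.conj c) 7 :=
  ec ▸ TDP.dp E (ρ := [11, 12, 14, 16, 17]) (u := [8, 1, 2, 14, 19, 19, 5, 3]) (v := [12, 2, 16, 2, 13, 19, 2, 18, 1]) (i := [1, 5, 20, 10, 2, 18, 5, 0])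
    (u' := [4, 6, 9, 5, 19, 14]) (v' := [5, 18, 10, 13, 4, 19, 4]) (j := [10, 4, 10, 4, 3, 2]) (by norm_num) (by decide +kernel)

theorem c5 : DP (MulAut.conj c) 5 :=
  ec ▸ TDP.dp E (ρ := [11, 12, 14, 16, 17]) (u := [21, 13, 20, 14, 2, 1, 19, 18]) (v := [12, 13, 1, 21, 6, 19, 5, 4, 1]) (i := [4, 8, 20, 2, 15, 5, 8, 10, 1])
    (u' := [3, 21, 14, 4, 2, 19, 2, 13, 5]) (v' := [4, 5, 20, 21, 4, 19, 18, 15, 3]) (j := [3, 4, 20, 4, 16, 21, 6, 13, 5]) (by norm_num) (by decide +kernel)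

theorem t7 : DP τ 7 :=
  et ▸ TDP.dp E (ρ := [63]) (u := [0, 6, 8, 6, 19, 6, 5, 1, 18, 0]) (v := [5, 13, 20, 5, 6, 20, 20, 0]) (i := [2, 9, 19, 11, 6, 11, 6, 21, 2])
    (u' := [21, 1, 4, 15, 21, 5, 20, 8, 0]) (v' := [1, 21, 4, 14, 21, 6, 10, 19, 6, 3]) (j := [21, 0, 2, 6, 21, 6, 19, 6, 5]) (by norm_num) (by decide +kernel)

theorem t5 : DP τ 5 :=
  et ▸ TDP.dp E (ρ := [63]) (u := [16, 1, 13, 2, 1, 21, 4, 20, 4]) (v := [0, 20, 0, 5, 13, 5, 19, 6, 14, 4]) (i := [1, 18, 6, 19, 8, 2, 20, 12, 2])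
    (u' := [5, 10, 19, 2, 8, 2, 15, 0, 1]) (v' := [21, 16, 5, 18, 5, 18, 4, 18, 1]) (j := [3, 12, 1, 14, 2, 8, 1, 14]) (by norm_num) (by decide +kernel)

theorem n5 : ∀ k : He, orderOf k = 5 → TDP.nf 2058 k ∈ [8] :=
  TDP.nf_mem (TDP.mdl_wd M [[12, 1, 20, 9, 5, 2, 15, 3], [14, 1, 14, 4, 8, 5, 20, 16], [9, 13, 2, 5, 19, 2, 11, 6, 2], [1, 4, 14, 2, 21, 3, 6, 20, 4], [1, 0, 2, 6, 19, 8, 4, 12, 0], [2, 16, 1, 2, 19, 4, 15, 3, 4]]) cl (n := 2) (x := 1) (by norm_num)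
    (by rw [CL.He.card]; norm_num) (R := [0, 1, 2, 3, 4, 5])
    (W := [(0, 0), (0, 3), (4, 2), (4, 3), (1, 4), (2, 4), (2, 1), (0, 2), (3, 2), (3, 4), (1, 1), (1, 3), (2, 2), (4, 4), (2, 3), (5, 4), (5, 1), (0, 4), (5, 3), (3, 3), (0, 1), (4, 1), (3, 1), (1, 2), (5, 2)]) (by norm_num) (by decide +kernel)

theorem nc : NC He 5 7 :=
  TDP.nc_of cl (by norm_num) (by norm_num) n5
    (TDP.nf_zero CL.He.model (by rw [CL.He.card_H]; norm_num)) (by decide)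

end DPx

/-- for `τ`, `σ`: `a` with `u v = a v u`, `u, v` fixed, and `y α y⁻¹ = conj a · α` -/
theorem fus : ∀ α : MulAut He, OI α → ∃ a ∈ ⁅fix α, fix α⁆, orderOf a = 2 ∧ ∃ y, y * (α y)⁻¹ = a :=
  TDP.fus_of reps DPx.fτ (DPx.es ▸ DPx.fτ)

/-- `r = 7`; `p = 5` for `conj c`, `τ`; `NC 5 7`: e.g. Sylow 5 has order 25, `|C(x)| ≤ 300` by `card_cent_le` in the chain of `S2075` -/
theorem swp : ∃ r, (∀ α : MulAut He, α * α = 1 → DP α r) ∧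
    ∀ α : MulAut He, α * α = 1 → α = 1 ∨ Om z α ∨ ∃ p, DP α p ∧ NC He p r :=
  TDP.swp_of E.T DPx.τz reps DPx.z7 DPx.c7 DPx.t7 (DPx.es ▸ DPx.t7) (.inr ⟨5, DPx.c5, DPx.nc⟩)
    ⟨5, DPx.t5, DPx.nc⟩ ⟨5, DPx.es ▸ DPx.t5, DPx.nc⟩

end CL.WX.HeD
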