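import Cfsg.Agent.INV.WX.ONE
import Cfsg.Agent.INV.WX.TCls

/-! Involutions of `Aut A`. `T = Lt (hg τ g 63) (63 :: ps)` is a Sylow 2-subgroup of `Aut A` (`pc_of E.MB` with `cs`;
`|Aut A| = 2 |A|`). For `α² = 1` and a 2-group `Y ≤ fix α` the 2-group `⟨conj Y, α⟩` is conjugate into `T`, and `conj Y` into
`conj S = T ∩ Inn`. One pass over `T`: each involution is `S`-conjugate (table: conjugator bits, index) to a listed
representative `ρ`; `ρ` is conjugate by a given word to `conj z`, `conj c`, `τ` or `σ`; `|C_S(ρ)|` by `Pc.card_cent`.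
`τ` fixes `z` and `c`, so conjugacy of `conj a` and `conj z` in `Aut A` gives conjugacy in `A`. Parity: `Tw.inn_iff`. -/

set_option autoImplicit false

namespace CL.WX.OND

open Subgroup CL.K CL.SchurC CL.AutT Cfsg.Spor
open CL.WS (Inn OI fix)

namespace Cx

open CL.WX.TC

def bT : List ℕ := [7792,159230,109368]

def c0 : Cl := ⟨0, 0, [],
  [(0,0)]⟩

def c1 : Cl := ⟨512, 1, [],
  [(512,0)]⟩

def c2 : Cl := ⟨1, 3, [],
  [(1,0),(29,91),(33,30),(61,501),(77,129),(81,410),(109,111),(113,236),(129,224),(157,387),(161,190),(189,301),(205,9),(209,362),(237,183),(241,332),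
   (269,495),(273,8),(301,1),(305,182),(321,426),(349,237),(353,300),(381,3),(397,119),(401,488),(429,473),(433,6),(449,10),(477,37),(481,140),(509,411),
   (513,296),(541,307),(545,374),(573,205),(589,489),(593,498),(621,7),(625,452),(641,456),(669,171),(673,406),(701,261),(717,33),(721,2),(749,223),
   (753,36),(781,135),(785,32),(813,41),(817,222),(833,130),(861,453),(865,4),(893,363),(909,287),(913,128),(941,177),(945,110),(961,34),(989,333),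
   (993,180),(1021,499)]⟩

def c3 : Cl := ⟨2, 1, [4,6,2,3,4,6,1,2,3,4,6,2,3,6,4,1,6,3,2],
  [(2,0),(82,426),(114,456),(162,34),(294,8),(390,2),(470,332),(502,182),(514,4),(594,130),(626,224),(674,10),(806,32),(902,66),(982,128),(1014,33)]⟩

def c4 : Cl := ⟨4, 1, [4,5,3,4,0,6,1,6,1,2,6,1,0,2,3,7,4,0,3,2,5,0,6,1,2,3,1,2,6,1,0,2,3,7,4,0,5,0,6,1,2,3,1,4,2],
  [(4,0),(16,453),(64,223),(84,32),(132,498),(144,135),(192,7),(212,88),(256,185),(308,236),(336,499),(356,6),(384,489),(436,454),(464,363),(484,4),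
   (516,296),(528,237),(576,261),(596,8),(644,16),(656,189),(704,277),(724,112),(768,307),(820,452),(848,411),(868,276),(896,9),(948,238),(976,1),
   (996,86)]⟩

def c5 : Cl := ⟨8, 1, [0,6,1,2,3,4,6,1,3,2,4,5,3,4,2,6,3,4,2,1,7,1,0],
  [(8,0),(120,34),(136,177),(248,387),(280,8),(360,2),(408,363),(488,182),(520,1),(632,307),(648,456),(760,426),(792,411),(872,489),(920,128),(1000,9)]⟩

def c6 : Cl := ⟨32, 1, [1,3,2,1,7,0,5,6,6,6,1,3,4,5,1,4,7,2,1,3,2,1,7,0,5,4,3,5,0,6,1,2,3,1,0,4,6,3,2,0,1,7,2,4,1,5,4,3,1,7,7,7,5],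
  [(32,0),(160,8),(544,1),(672,2)]⟩

def c7 : Cl := ⟨128, 1, [3,1,3,2,1,7,0,5,1,3,2,1,7,0,5,0,4,6,3,2,0,1,7,2,5,3,4,0,6,1,7,7,7,3,2,7,2,1,7,2,6,1,0,2,3,7,4,0,1,3,2,1,7,0,5,3,1],
  [(128,0),(640,1)]⟩

def c8 : Cl := ⟨138, 1, [4,6,3,4,6,2,3,2,1,4,6,3,2,1,6,4,3,2,3,4,2,1],
  [(122,456),(138,0),(170,426),(218,10),(270,33),(302,8),(350,332),(510,338),(634,224),(650,4),(682,130),(730,34),(782,182),(814,32),(862,128),(1022,2)]⟩

def cl : List Cl := [c0, c1, c2, c3, c4, c5, c6, c7, c8]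

def fo : List (List ℕ × ℕ × List ℕ) :=
  [([7792,159230,109368], 0, []),
   ([138632,25816,103328], 512, []),
   ([7792,25816,109368], 128, [7,4,5,3,4,0,6,1,2,3,2,6,1,0,2,3,7,4,0,3,2,6,1,0,2,3,7,4,0,6,2,3,4]),
   ([138632,159230,103328], 640, [1,6,6,6,1,3,4,5,1,4,0,4,6,3,2,0,1,7,2,0,1,3,2,1,7,0,5,1,7,0,4,3,5,4,2,7,3,2,1,7,0,5,4,5,3,4,0,6,1,3]),
   ([30976,159856,192522], 592, []),
   ([77370,182244,163936], 80, []),
   ([138632,25816,109368], 672, [7,4,7,1,3,2,6,3,4,3,2,6,3,1,6,4,2,3,1,2,7,1,2,0]),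
   ([7792,25816,103328], 32, [7,4,3,7,1,2,4,3,2,3,4,6,4,3,1,2,7,4,3,1,6,2,1,0]),
   ([138632,159230,109368], 544, [0,1,3,7,2,4,3,6,1,2,3,6,4,3,2,7,3,1,2,7,4,3,1,7]),
   ([7792,159230,103328], 160, [0,3,5,0,6,1,2,3,7,0,4,3,5,4,2,5,0,6,1,2,3,1,2,1,7,0,4,3,5,4,2,7,7,7,3,2,7,2,1,7,5])]

/-- all computations at once (the tables of the letters are shared) -/
theorem all : (pcOK (hF F F1 63) (base.map (2 * ·)) (63 :: ps) cs && CE.ltAll (2 * 122760) bT) = true ∧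
    cnt (hF F F1 63) bT (63 :: ps) (fun _ _ L => decide (L = bT)) = 1 ∧
    passA (hF F F1 63) bT (63 :: ps) cl = 0 ∧ passB (hF F F1 63) bT (63 :: ps) fo = 0 ∧
    lall (clOK (hF F F1 63) (base.map (2 * ·)) bT ps zw cw []) cl = true ∧
    (CE.ltAll 63 zw && CE.ltAll 63 cw && CE.ltAll 63 [] && feq (wap F1 zw) (wap F zw) base &&
      feq (wap F1 cw) (wap F cw) base && !(feq (wap F cw) (fun c => c) base)) = true ∧
    (lall (foOK (hF F F1 63) (base.map (2 * ·)) bT (63 :: ps) zw) fo && CE.ltAll 63 zw &&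
      feq (wap F1 zw) (wap F zw) base) = true ∧
    feq (itr (wap F cw) 2) (fun c => c) base = true := by decide +kernel

theorem sb : SBB E bT := sbb_of E all.1 all.2.1

theorem dat : Dat g τ ps zw cw [] cl := dat_of E sb all.2.2.2.2.1 all.2.2.1 all.2.2.2.2.2.1

theorem l3 : ∃ Y ≤ fix (wd (hg τ g 63) [63]), IsPGroup 2 Y ∧ 1 ≤ Nat.card Y := ⟨⊥, bot_le, IsPGroup.of_bot, card_bot.ge⟩

end Cx

theorem reps : ∀ α : MulAut ON, α * α = 1 → α = 1 ∨ IsConj (MulAut.conj z) α ∨ IsConj (MulAut.conj c) α ∨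
    IsConj τ α ∨ IsConj σ α :=
  Cx.dat.reps

theorem cls : ∀ a : ON, orderOf a = 2 → IsConj z a ∨ IsConj c a :=
  Cx.dat.inv

theorem cext : ¬ IsConj z c → ∀ Y ≤ centralizer ({c} : Set ON), IsPGroup 2 Y → Nat.card Y ≤ 512 :=
  Cx.dat.cext (by decide +kernel) (M.pow_eq_one Cx.all.2.2.2.2.2.2.2)

/-- a pass over `T`: the fourth powers of order two form a short list -/
theorem four : ∀ γ : MulAut ON, γ ^ 8 = 1 → γ ^ 4 = 1 ∨ Om z (γ ^ 4) :=
  TC.four E Cx.sb Cx.all.2.2.2.2.2.2.1 Cx.all.2.2.2.1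

theorem small1 : ∀ Y ≤ fix τ, IsPGroup 2 Y → Nat.card Y ≤ 8 :=
  Cx.dat.small1 (by decide +kernel) fun _ => by decide +kernel

theorem small2 : ∀ β : MulAut ON, OI β → ∃ Y ≤ fix β, IsPGroup 2 Y ∧ 1 ≤ Nat.card Y :=
  Cx.dat.small2 Cx.l3 Cx.l3

end CL.WX.OND
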