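import Cfsg.Agent.INV.WX.SuzCls
import Cfsg.Agent.INV.WX.SuzCen
import Cfsg.Agent.INV.WX.TDP

/-! Elements of the derived groups of fixed points: both properties are invariant under conjugation in `Aut A`; use `reps`. -/

set_option autoImplicit false

namespace CL.WX.SuzD

open Subgroup CL.K CL.SchurC CL.AutT Cfsg.Spor
open CL.WS (Inn OI fix)

namespace DPx

theorem et : wd (hg τ g 63) [63] = τ := TDP.wd63

theorem τz : τ z = z := by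
  have := TDP.fx E (ρ := [63]) (w := zw) (by decide +kernel)
  rwa [et] at this

theorem ez : wd (hg τ g 63) [20] = MulAut.conj z := hg_wd (by decide)

theorem ec : wd (hg τ g 63) [13, 14, 17, 20] = MulAut.conj c := hg_wd (by decide)

theorem fτ : TDP.Fus τ :=
  et ▸ TDP.fus E (ρ := [63]) (u := [4, 14, 22, 10, 21, 1, 22, 22, 18, 15]) (v := [3, 15, 18, 22, 1, 12, 14, 24, 18, 1, 6]) (a := [2, 13, 22, 1, 5, 18, 9, 1, 24, 13, 2])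
    (y := [5, 24, 1, 15, 23, 16, 17, 1, 16, 8, 9]) (by decide +kernel)

theorem fσ : TDP.Fus σ :=
  TDP.fus E (ρ := [63, 12]) (u := [3, 11, 22, 16, 1, 14, 23, 9, 1, 16, 8, 0]) (v := [8, 3, 16, 23, 8, 1, 23, 23, 9, 5, 1, 0]) (a := [21, 14, 10, 1, 10, 1, 14, 23])
    (y := [8, 13, 1, 23, 23, 18, 1, 23, 10, 14, 2]) (by decide +kernel)

theorem z5 : DP (MulAut.conj z) 5 :=
  ez ▸ TDP.dp E (ρ := [20]) (u := [8, 23, 15, 23, 18, 8]) (v := [22, 18, 4, 12, 23, 4]) (i := [3, 8, 21, 22, 12, 23, 12])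
    (u' := [2, 23, 24, 10, 3, 23, 18]) (v' := [16, 24, 8, 15, 23, 2]) (j := [15, 4, 23, 22, 21, 6]) (by norm_num) (by decide +kernel)

theorem c5 : DP (MulAut.conj c) 5 :=
  ec ▸ TDP.dp E (ρ := [13, 14, 17, 20]) (u := [14, 12, 10, 14, 1, 16, 5, 1, 10, 0]) (v := [1, 21, 11, 12, 22, 23, 1, 12, 13, 0]) (i := [11, 1, 21, 2, 21, 14, 8, 1, 14, 6, 0])
    (u' := [10, 14, 1, 16, 5, 1, 14, 10]) (v' := [6, 10, 1, 4, 21, 12, 11, 22, 23, 1, 0]) (j := [23, 8, 13, 1, 13, 8, 21, 18, 17, 15]) (by norm_num) (by decide +kernel)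

theorem c7 : DP (MulAut.conj c) 7 :=
  ec ▸ TDP.dp E (ρ := [13, 14, 17, 20]) (u := [14, 12, 10, 14, 1, 16, 5, 1, 10, 0]) (v := [1, 21, 11, 12, 22, 23, 1, 12, 13, 0]) (i := [11, 1, 21, 2, 21, 14, 8, 1, 14, 6, 0])
    (u' := [12, 23, 8, 13, 1, 9, 8, 15, 21, 12]) (v' := [3, 24, 9, 12, 1, 16, 10, 1, 15, 18, 21]) (j := [12, 23, 1, 14, 1, 10, 5, 4, 1, 8, 1, 0]) (by norm_num) (by decide +kernel)

theorem t5 : DP τ 5 :=
  et ▸ TDP.dp E (ρ := [63]) (u := [1, 4, 8, 15, 22, 1, 23, 13, 4, 14, 5]) (v := [0, 17, 23, 1, 22, 23, 15, 11, 1, 5, 24]) (i := [3, 12, 22, 1, 9, 17, 8, 1, 13, 22, 2])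
    (u' := [2, 12, 1, 24, 6, 21, 2, 1, 16, 4, 0]) (v' := [1, 9, 16, 3, 8, 1, 22, 14, 6, 3, 1]) (j := [16, 1, 12, 16, 8, 1, 15, 10, 24, 0]) (by norm_num) (by decide +kernel)

theorem t11 : DP τ 11 :=
  et ▸ TDP.dp E (ρ := [63]) (u := [1, 4, 8, 15, 22, 1, 23, 13, 4, 14, 5]) (v := [0, 17, 23, 1, 22, 23, 15, 11, 1, 5, 24]) (i := [3, 12, 22, 1, 9, 17, 8, 1, 13, 22, 2])
    (u' := [8, 23, 10, 9, 13, 1, 23, 9, 22, 5, 1]) (v' := [1, 13, 16, 24, 1, 24, 21, 14, 24, 12]) (j := [18, 15, 24, 24, 1, 23, 10, 24, 14, 4]) (by norm_num) (by decide +kernel)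

theorem s5 : DP σ 5 :=
  TDP.dp E (ρ := [63, 12]) (u := [10, 15, 24, 24, 11, 1, 8, 21, 4, 24]) (v := [0, 3, 16, 1, 10, 6, 4, 23, 1, 8, 10]) (i := [2, 1, 16, 18, 1, 17, 15, 23, 22, 21])
    (u' := [21, 16, 14, 22, 16, 1, 10, 1, 21, 4]) (v' := [2, 10, 1, 4, 21, 10, 1, 6, 21, 1, 15]) (j := [6, 8, 24, 14, 4, 22, 1, 23, 16, 17, 23]) (by norm_num) (by decide +kernel)

theorem s7 : DP σ 7 :=
  TDP.dp E (ρ := [63, 12]) (u := [10, 15, 24, 24, 11, 1, 8, 21, 4, 24]) (v := [0, 3, 16, 1, 10, 6, 4, 23, 1, 8, 10]) (i := [2, 1, 16, 18, 1, 17, 15, 23, 22, 21])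
    (u' := [0, 12, 18, 21, 12, 1, 14, 12, 1, 13, 9, 0]) (v' := [4, 8, 17, 9, 1, 10, 1, 24, 15, 23]) (j := [1, 11, 13, 3, 12, 1, 14, 11, 24, 1, 8, 0]) (by norm_num) (by decide +kernel)

theorem n5 : ∀ k : Suz, orderOf k = 5 → TDP.nf 1782 k ∈ [2, 12] :=
  TDP.nf_mem (TDP.mdl_wd M [[0, 6, 1, 21, 12, 21, 15, 21, 1, 21, 1], [16, 2, 1, 13, 21, 1, 15, 24, 15, 21, 24], [0, 5, 1, 11, 23, 18, 1, 16, 6, 24, 8, 0], [2, 1, 14, 3, 4, 6, 1, 18, 21, 4, 1, 0], [0, 9, 21, 1, 10, 22, 1, 13, 23, 16, 12, 10, 0], [3, 13, 4, 24, 9, 1, 10, 6, 22, 1, 23]]) cl (n := 2) (x := 1) (by norm_num)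
    (by rw [CL.Suz.card]; norm_num) (R := [0, 1, 2, 3, 4, 5])
    (W := [(0, 0), (0, 2), (3, 2), (1, 1), (0, 1), (0, 4), (0, 3), (4, 4), (2, 3), (2, 4), (1, 4), (3, 3), (1, 2), (1, 3), (2, 1), (3, 4), (5, 3), (5, 2), (4, 1), (3, 1), (5, 4), (5, 1), (4, 2), (4, 3), (2, 2)]) (by norm_num) (by decide +kernel)

theorem n7 : ∀ k : Suz, orderOf k = 7 → TDP.nf 1782 k ∈ [4] :=
  TDP.nf_mem (TDP.mdl_wd M [[3, 14, 1, 3, 21, 17, 1, 16, 4, 14, 22]]) cl (n := 1) (x := 1) (by norm_num)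
    (by rw [CL.Suz.card]; norm_num) (R := [0])
    (W := [(0, 0), (0, 3), (0, 4), (0, 6), (0, 1), (0, 2), (0, 5)]) (by norm_num) (by decide +kernel)

theorem nc7 : NC Suz 7 5 := TDP.nc_of cl (by norm_num) (by norm_num) n7 n5 (by decide)

theorem nc11 : NC Suz 11 5 :=
  TDP.nc_of cl (by norm_num) (by norm_num)
    (TDP.nf_zero CL.Suz.model (by rw [CL.Suz.card_H]; norm_num)) n5 (by decide)

end DPx

/-- for `τ`, `σ`: `a` with `u v = a v u`, `u, v` fixed, and `y α y⁻¹ = conj a · α` -/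
theorem fus : ∀ α : MulAut Suz, OI α → ∃ a ∈ ⁅fix α, fix α⁆, orderOf a = 2 ∧ ∃ y, y * (α y)⁻¹ = a :=
  TDP.fus_of reps DPx.fτ DPx.fσ

/-- `r = 5`; `p = 7` for `conj c`, `σ`, `p = 11` for `τ`; `NC 11 5` from `S2074.ca` (`cent_cover`), `NC 7 5` by `card_cent_le` in the chain of `S2074` (`|C| ≤ 84`, it contains elements of orders 7 and 3) and Sylow -/
theorem swp : ∃ r, (∀ α : MulAut Suz, α * α = 1 → DP α r) ∧
    ∀ α : MulAut Suz, α * α = 1 → α = 1 ∨ Om z α ∨ ∃ p, DP α p ∧ NC Suz p r :=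
  TDP.swp_of E.T DPx.τz reps DPx.z5 DPx.c5 DPx.t5 DPx.s5 (.inr ⟨7, DPx.c7, DPx.nc7⟩)
    ⟨11, DPx.t11, DPx.nc11⟩ ⟨7, DPx.s7, DPx.nc7⟩

end CL.WX.SuzD
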